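import Cfsg.Agent.BHZ.Nil.RowsCl
import Cfsg.Agent.BHZ.Nil.RowsSzRee
import Cfsg.Agent.BHZ.Spor.All
import Cfsg.Agent.BHZ.Exc.Rows
import Cfsg.Agent.BHZ.Exc.RED
import Cfsg.Agent.BHZ.Exc.TA1
import Cfsg.Agent.BHZ.Exc.TAG2
import Cfsg.Agent.BHZ.Exc.TR
import Cfsg.Agent.BHZ.Exc.TY
import Cfsg.Agent.BHZ.Exc.DecA
import Cfsg.Agent.BHZ.Exc.C1
import Cfsg.Agent.BHZ.Exc.CC
import Cfsg.Agent.BHZ.Exc.DC2
import Cfsg.Agent.BHZ.Exc.DHZ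
import Cfsg.Agent.BHZ.Exc.ND4
import Cfsg.Agent.BHZ.Exc.CovI
import Cfsg.Agent.BHZ.Exc.CovIIB
import Cfsg.Agent.BHZ.Exc.Frob6
import Cfsg.Agent.BHZ.Exc.Full6
import Cfsg.Agent.BHZ.Exc.Lift6
import Cfsg.Agent.BHZ.Exc.Row6
import Cfsg.Agent.BHZ.Exc.TF4

/-!
# S4806: all rows
-/

set_option autoImplicit false

namespace Cfsg.Agent.BHZ.Final

open Cfsg.Agent.BHZ.Exc

universe u

theorem ta : BoxTA := boxTA_of boxTA2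

theorem six (r : ℕ) [Fact r.Prime] (hr : r ≠ 3) : Main6 r :=
  main6 ta boxCovII boxTY1 boxDecA (boxC1 ta) (boxCC boxND) boxC2 (boxHZ boxTY2) hr

theorem boxesI : BoxesI.{u} := ⟨boxRED, ta, boxTR ta boxFrob6 boxFull6, boxCovI, six⟩

theorem row6 : BoxRow6.{u} := boxRow6 boxRED six boxLift6

theorem rows : Nil.Rows.{u} :=
  ⟨Nil.rowFor_alt, Nil.rowFor_lie, Nil.rowFor_psl, Nil.rowFor_psp, Nil.rowFor_psu, Nil.rowFor_oodd, Nil.rowFor_oplus,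
    Nil.rowFor_ominus, boxesI.g2, boxesI.f4, boxesI.e6 row6, boxesI.e7, boxesI.e8, boxesI.te6 row6, boxesI.td4,
    Nil.rowFor_sz, Nil.rowFor_ree, boxTF4, Spor.tits_row, Spor.spor_row⟩

end Cfsg.Agent.BHZ.Final
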